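import Mathlib.RingTheory.Smooth.Quotient
import Mathlib.RingTheory.RingHom.Smooth
import Mathlib.RingTheory.TensorProduct.Quotient
import Mathlib.RingTheory.Flat.Stability

/-! Formal smoothness of a flat algebra can be checked modulo a nilpotent ideal. -/

set_option autoImplicit false
set_option maxSynthPendingDepth 3

universe u

open TensorProduct

noncomputable section

namespace Groth.Agent.NilSmooth

theorem formallySmooth_of_flat_nilpotent (n : ℕ) :
    ∀ {R S R' S' : Type u} [CommRing R] [CommRing S] [CommRing R'] [CommRing S'] [Algebra R S] [Module.Flat R S]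
      (qR : R →+* R') (qS : S →+* S') (g : R' →+* S'), Function.Surjective qR → Function.Surjective qS →
      qS.comp (algebraMap R S) = g.comp qR → RingHom.ker qR ^ (n + 1) = ⊥ →
      RingHom.ker qS = (RingHom.ker qR).map (algebraMap R S) → g.FormallySmooth →
      (algebraMap R S).FormallySmooth := by
  induction n with
  | zero =>
    intro R S R' S' _ _ _ _ _ _ qR qS g hR hS comm hn heq hg
    refine RingHom.FormallySmooth.of_flat_of_ker_eq_map_of_square_zero _ (RingHom.flat_algebraMap_iff.2 inferInstance)
      qR qS g hR hS comm ?_ heq hg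
    rw [zero_add, pow_one] at hn
    rw [hn, pow_two, Ideal.bot_mul]
  | succ n ih =>
    intro R S R' S' _ _ _ _ _ _ qR qS g hR hS comm hn heq hg
    let I' := RingHom.ker qR ^ (n + 1)
    have hI' : I' ≤ RingHom.ker qR := Ideal.pow_le_self (Nat.succ_ne_zero n)
    have hJ : I'.map (algebraMap R S) ≤ RingHom.ker qS := heq ▸ Ideal.map_mono hI'
    haveI : Module.Flat (R ⧸ I') (S ⧸ I'.map (algebraMap R S)) :=
      Module.Flat.of_linearEquiv (Algebra.TensorProduct.quotIdealMapEquivQuotTensor S I').toLinearEquiv
    have hmk : ∀ r : R, algebraMap (R ⧸ I') (S ⧸ I'.map (algebraMap R S)) (Ideal.Quotient.mk I' r) =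
        Ideal.Quotient.mk (I'.map (algebraMap R S)) (algebraMap R S r) := fun r => rfl
    have hq : (algebraMap (R ⧸ I') (S ⧸ I'.map (algebraMap R S))).FormallySmooth := by
      refine ih (Ideal.Quotient.lift I' qR fun x hx => hI' hx)
        (Ideal.Quotient.lift (I'.map (algebraMap R S)) qS fun x hx => hJ hx) g
        (Ideal.Quotient.lift_surjective_of_surjective _ _ hR) (Ideal.Quotient.lift_surjective_of_surjective _ _ hS)
        (Ideal.Quotient.ringHom_ext (RingHom.ext fun r => RingHom.congr_fun comm r)) ?_ ?_ hg
      · rw [Ideal.ker_quotient_lift, ← Ideal.map_pow, Ideal.map_quotient_self]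
      · rw [Ideal.ker_quotient_lift, Ideal.ker_quotient_lift, heq, Ideal.map_map, Ideal.map_map]
        congr 1
    refine RingHom.FormallySmooth.of_flat_of_ker_eq_map_of_square_zero _ (RingHom.flat_algebraMap_iff.2 inferInstance)
      (Ideal.Quotient.mk I') (Ideal.Quotient.mk (I'.map (algebraMap R S))) _ Ideal.Quotient.mk_surjective
      Ideal.Quotient.mk_surjective (RingHom.ext hmk).symm ?_ ?_ hq
    · rw [Ideal.mk_ker, ← pow_mul]
      exact le_bot_iff.1 (hn ▸ Ideal.pow_le_pow_right (by omega))
    · rw [Ideal.mk_ker, Ideal.mk_ker]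

/-- An endomorphism which is the identity modulo a square-zero principal ideal of the base is bijective. -/
theorem bijective_of_sub_mem {A B : Type u} [CommRing A] [CommRing B] [Algebra A B] (t : A) (htt : t * t = 0)
    (f : B →ₐ[A] B) (h : ∀ b, f b - b ∈ Ideal.span {algebraMap A B t}) : Function.Bijective f := by
  have hfix : ∀ b ∈ Ideal.span {algebraMap A B t}, f b = b := fun b hb => by
    obtain ⟨c, rfl⟩ := Ideal.mem_span_singleton'.1 hb
    obtain ⟨d, hd⟩ := Ideal.mem_span_singleton'.1 (h c)
    have htt' : algebraMap A B t * algebraMap A B t = 0 := by rw [← map_mul, htt, map_zero]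
    rw [map_mul, f.commutes]
    linear_combination (-algebraMap A B t) * hd + d * htt'
  refine ⟨(injective_iff_map_eq_zero _).2 fun b hb => ?_, fun b => ⟨b - (f b - b), ?_⟩⟩
  · have := h b
    rw [hb, zero_sub, neg_mem_iff] at this
    rw [← hfix b this, hb]
  · rw [map_sub, hfix _ (h b)]; abel

end Groth.Agent.NilSmooth
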