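import Groth.Agent.NilSmooth.Basic

/-! The quotient of a flat algebra by an extended ideal is flat over the quotient. -/

set_option autoImplicit false
set_option maxSynthPendingDepth 3

universe u

open scoped TensorProduct

namespace Groth.Agent.NilSmooth

theorem flat_quotient_map (Z Λ : Type u) [CommRing Z] [CommRing Λ] [Algebra Z Λ] [Module.Flat Z Λ] (I : Ideal Z) :
    Module.Flat (Z ⧸ I) (Λ ⧸ I.map (algebraMap Z Λ)) :=
  Module.Flat.of_linearEquiv (Algebra.TensorProduct.quotIdealMapEquivQuotTensor Λ I).toLinearEquiv

end Groth.Agent.NilSmooth
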